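import Mathlib
import Groth.Agent.TorLib.Basic

/-! Vanishing of `Tor` on classes of modules: modules over an algebra, torsion modules. -/

open CategoryTheory CategoryTheory.Limits MonoidalCategory
open scoped TensorProduct
open Groth.Agent.TorLib

universe u

namespace Groth.Agent.TorVanLib

variable {A : Type u} [CommRing A]

section
variable {M : ModuleCat.{u} A} (P : ProjectiveResolution M)

/-- `Tor_i(N, M) = 0`, computed by the resolution `P`. -/
def V (i : ℕ) (N : Type u) [AddCommGroup N] [Module A N] : Prop :=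
  (cx P (ModuleCat.of A N)).ExactAt i

theorem V_iff (i : ℕ) (N : Type u) [AddCommGroup N] [Module A N] :
    V P i N ↔ IsZero ((cx P (ModuleCat.of A N)).homology i) :=
  HomologicalComplex.exactAt_iff_isZero_homology _ _

theorem V_exact (n : ℕ) (N : Type u) [AddCommGroup N] [Module A N] :
    V P (n + 1) N ↔ Function.Exact ((P.complex.d (n + 2) (n + 1)).hom.lTensor N) ((P.complex.d (n + 1) n).hom.lTensor N) := by
  unfold V
  rw [HomologicalComplex.exactAt_iff' _ (n + 2) (n + 1) n (by simp) (by simp),
    CategoryTheory.ShortComplex.ShortExact.moduleCat_exact_iff_function_exact]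
  rfl

theorem V_of_flat (n : ℕ) (N : Type u) [AddCommGroup N] [Module A N] [Module.Flat A N] : V P (n + 1) N :=
  haveI : Module.Flat A (ModuleCat.of A N) := ‹Module.Flat A N›
  exactAt_succ_of_flat P _ n

theorem V_congr (i : ℕ) {N N' : Type u} [AddCommGroup N] [Module A N] [AddCommGroup N'] [Module A N']
    (e : N ≃ₗ[A] N') (h : V P i N) : V P i N' := by
  rw [V_iff] at h ⊢
  exact h.of_iso ((torIso P _ i).symm ≪≫
    (((CategoryTheory.Tor (ModuleCat.{u} A) i).mapIso e.toModuleIso).app M).symm ≪≫ torIso P _ i)

variable {K F N : Type u} [AddCommGroup K] [Module A K] [AddCommGroup F] [Module A F]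
  [AddCommGroup N] [Module A N] {f : K →ₗ[A] F} {g : F →ₗ[A] N}

theorem V_mid (hf : Function.Injective f) (hg : Function.Surjective g) (hfg : Function.Exact f g) (i : ℕ)
    (h1 : V P i K) (h3 : V P i N) : V P i F := by
  rw [V_iff] at h1 h3 ⊢
  exact ((cxSeq_shortExact P (shortExact_mk f g hf hg hfg)).homology_exact₂ i).isZero_of_both_zeros
    (h1.eq_of_src _ _) (h3.eq_of_tgt _ _)

theorem V_right (hf : Function.Injective f) (hg : Function.Surjective g) (hfg : Function.Exact f g) (i : ℕ)
    (h2 : V P (i + 1) F) (h1 : V P i K) : V P (i + 1) N := by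
  rw [V_iff] at h1 h2 ⊢
  exact ((cxSeq_shortExact P (shortExact_mk f g hf hg hfg)).homology_exact₃ (i + 1) i (by simp)).isZero_of_both_zeros
    (h2.eq_of_src _ _) (h1.eq_of_tgt _ _)

theorem V_left (hf : Function.Injective f) (hg : Function.Surjective g) (hfg : Function.Exact f g) (i : ℕ)
    (h3 : V P (i + 1) N) (h2 : V P i F) : V P i K := by
  rw [V_iff] at h3 h2 ⊢
  exact ((cxSeq_shortExact P (shortExact_mk f g hf hg hfg)).homology_exact₁ (i + 1) i (by simp)).isZero_of_both_zeros
    (h3.eq_of_src _ _) (h2.eq_of_tgt _ _)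

theorem V_one (hf : Function.Injective f) (hg : Function.Surjective g) (hfg : Function.Exact f g)
    (h2 : V P 1 F) (h : Function.Injective (f.rTensor M)) : V P 1 N := by
  rw [V_iff] at h2 ⊢
  let hS := shortExact_mk f g hf hg hfg
  let h' := cxSeq_shortExact P hS
  refine (h'.homology_exact₃ 1 0 (by simp)).isZero_of_both_zeros (h2.eq_of_src _ _) ?_
  have : Mono (HomologicalComplex.homologyMap (cxMap P (M := ModuleCat.of A K) (M' := ModuleCat.of A F) (ModuleCat.ofHom f)) 0) := by
    rw [ModuleCat.mono_iff_injective]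
    intro x y hxy
    apply (h0Iso P _).toLinearEquiv.injective
    refine h ?_
    have e := h0Iso_naturality P (M := ModuleCat.of A K) (M' := ModuleCat.of A F) (ModuleCat.ofHom f)
    exact ((ConcreteCategory.congr_hom e x).symm.trans (congrArg (h0Iso P _).hom.hom hxy)).trans (ConcreteCategory.congr_hom e y)
  exact (cancel_mono _).mp ((h'.δ_comp 1 0 (by simp)).trans zero_comp.symm)

variable (B : Type u) [CommRing B] [Algebra A B]

/-- A flat algebra: base change of `M` injective on submodules. -/
theorem rTensor_injective_of_flat_baseChange [Module.Flat B (B ⊗[A] M)] {X Y : Type u} [AddCommGroup X] [Module B X]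
    [Module A X] [IsScalarTower A B X] [AddCommGroup Y] [Module B Y] [Module A Y] [IsScalarTower A B Y]
    (f : X →ₗ[B] Y) (hf : Function.Injective f) : Function.Injective ((f.restrictScalars A).rTensor M) := by
  let eX := TensorProduct.AlgebraTensorModule.cancelBaseChange A B B X M
  let eY := TensorProduct.AlgebraTensorModule.cancelBaseChange A B B Y M
  have key : ∀ z, (f.restrictScalars A).rTensor M z = eY (f.rTensor (B ⊗[A] M) (eX.symm z)) := by
    intro z
    induction z with
    | zero => simp
    | tmul x m => simp [eX, eY]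
    | add a b ha hb => simp only [map_add, ha, hb]
  intro a b hab
  rw [key, key] at hab
  exact eX.symm.injective (Module.Flat.rTensor_preserves_injective_linearMap f hf (eY.injective hab))

theorem V_free (n : ℕ) (h : V P (n + 1) B) (ι : Type u) : V P (n + 1) (ι →₀ B) := by
  classical
  let e : (ι →₀ A) ⊗[A] B ≃ₗ[A] (ι →₀ B) := TensorProduct.finsuppScalarLeft A B ι
  letI : AddCommGroup ((ι →₀ A) ⊗[A] B) := inferInstance
  refine V_congr (N := (ι →₀ A) ⊗[A] B) P (n + 1) e ?_
  rw [V_exact] at h ⊢
  exact (Function.Exact.iff_of_ladder_linearEquiv (e₁ := TensorProduct.assoc A (ι →₀ A) B _)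
    (e₂ := TensorProduct.assoc A (ι →₀ A) B _) (e₃ := TensorProduct.assoc A (ι →₀ A) B _)
    (by ext; simp) (by ext; simp)).mp (Module.Flat.lTensor_exact (ι →₀ A) h)

/-- `Tor_i(B, M) = 0` for `1 ≤ i ≤ k` and `B ⊗ M` flat give vanishing on all `B`-modules. -/
theorem V_algebra [Module.Flat B (B ⊗[A] M)] {k : ℕ} (h : ∀ i, i + 1 ≤ k → V P (i + 1) B) :
    ∀ i, i + 1 ≤ k → ∀ (N : Type u) [AddCommGroup N] [Module B N] [Module A N] [IsScalarTower A B N],
      V P (i + 1) N := by
  have key : ∀ (X : Type u) [AddCommGroup X] [Module B X] [Module A X] [IsScalarTower A B X],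
      ∃ (K F : Type u) (_ : AddCommGroup K) (_ : Module B K) (_ : Module A K) (_ : IsScalarTower A B K)
        (_ : AddCommGroup F) (_ : Module A F) (f : K →ₗ[A] F) (g : F →ₗ[A] X),
        Function.Injective f ∧ Function.Surjective g ∧ Function.Exact f g ∧
          Function.Injective (f.rTensor M) ∧ ∀ i, i + 1 ≤ k → V P (i + 1) F := by
    intro X _ _ _ _
    let g : (X →₀ B) →ₗ[B] X := Finsupp.linearCombination B id
    have hg : Function.Surjective g := fun m => ⟨Finsupp.single m 1, by simp [g]⟩
    exact ⟨LinearMap.ker g, X →₀ B, inferInstance, inferInstance, inferInstance, inferInstance, inferInstance,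
      inferInstance, (LinearMap.ker g).subtype.restrictScalars A, g.restrictScalars A,
      Subtype.val_injective, hg, LinearMap.exact_subtype_ker_map g,
      rTensor_injective_of_flat_baseChange B _ Subtype.val_injective,
      fun i hi => V_free P B i (h i hi) X⟩
  intro i
  induction i with
  | zero =>
    intro hi N _ _ _ _
    obtain ⟨K, F, _, _, _, _, _, _, f, g, hf, hg, hfg, hinj, hF⟩ := key N
    exact V_one P hf hg hfg (hF 0 hi) hinj
  | succ i ih =>
    intro hi N _ _ _ _
    obtain ⟨K, F, _, _, _, _, _, _, f, g, hf, hg, hfg, hinj, hF⟩ := key N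
    exact V_right P hf hg hfg (i + 1) (hF (i + 1) hi) (ih (by omega) K)

end

section
variable {M : ModuleCat.{u} A} (P : ProjectiveResolution M)

/-- Vanishing passes to increasing unions. -/
theorem V_union (n : ℕ) (N : Type u) [AddCommGroup N] [Module A N] (S : ℕ → Submodule A N) (hS : Monotone S)
    (hcov : ∀ x, ∃ j, x ∈ S j) (h : ∀ j, V P (n + 1) (S j)) : V P (n + 1) N := by
  rw [V_exact]
  intro z
  constructor
  · intro hz
    have hlift : ∀ w : N ⊗[A] P.complex.X (n + 1), ∃ j w', (S j).subtype.rTensor _ w' = w := by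
      intro w
      induction w with
      | zero => exact ⟨0, 0, map_zero _⟩
      | tmul x p => obtain ⟨j, hj⟩ := hcov x; exact ⟨j, ⟨x, hj⟩ ⊗ₜ p, rfl⟩
      | add a b ha hb =>
        obtain ⟨i, a', rfl⟩ := ha
        obtain ⟨j, b', rfl⟩ := hb
        refine ⟨max i j, (Submodule.inclusion (hS (le_max_left i j))).rTensor _ a' +
          (Submodule.inclusion (hS (le_max_right i j))).rTensor _ b', ?_⟩
        simp only [map_add, ← LinearMap.rTensor_comp_apply]
        rfl
    obtain ⟨j, w, rfl⟩ := hlift z
    have hw : (P.complex.d (n + 1) n).hom.lTensor (S j) w = 0 := by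
      haveI := flat_X P n
      apply Module.Flat.rTensor_preserves_injective_linearMap (M := P.complex.X n) (S j).subtype Subtype.val_injective
      rw [map_zero, ← LinearMap.comp_apply, LinearMap.rTensor_comp_lTensor, ← LinearMap.lTensor_comp_rTensor]
      exact hz
    obtain ⟨v, rfl⟩ := ((V_exact P n _).mp (h j) w).mp hw
    refine ⟨(S j).subtype.rTensor _ v, ?_⟩
    rw [← LinearMap.comp_apply, ← LinearMap.comp_apply, LinearMap.rTensor_comp_lTensor, LinearMap.lTensor_comp_rTensor]
  · rintro ⟨v, rfl⟩
    rw [← LinearMap.comp_apply, ← LinearMap.lTensor_comp, ← ModuleCat.hom_comp, HomologicalComplex.d_comp_d]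
    simp

end

end Groth.Agent.TorVanLib
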